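import Cfsg.Agent.H348.FPF
import Cfsg.Agent.S0690
import Cfsg.Agent.PermutationGroups.AutSL25
import Mathlib

/-!
Nonsolvable groups with a fixed-point-free action on a nontrivial finite abelian group.
-/

set_option autoImplicit false
set_option linter.style.haveILetI false

namespace Cfsg.Agent.H348

open Cfsg.Agent.PermutationGroups.AutSL25

/-- Perfect groups with a fixed-point-free action are isomorphic to `SL(2,5)`. -/
theorem HasFPF.perfect {G : Type*} [Group G] [Finite G] (h : HasFPF G) (L : Subgroup G)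
    (hL : ⁅L, L⁆ = L) (hne : L ≠ ⊥) : Nonempty (L ≃* SL25) := by
  obtain ⟨V, _, _, _, φ, hφ⟩ := h
  have hinj : Function.Injective φ := by
    rw [injective_iff_map_eq_one]
    intro a ha
    by_contra hne
    obtain ⟨v, hv⟩ := exists_ne (1 : V)
    exact hv (hφ a hne v (by rw [ha]; rfl))
  have e : L ≃* L.map φ := L.equivMapOfInjective φ hinj
  have hperf : commutator (L.map φ) = ⊤ := by
    apply Subgroup.map_injective (L.map φ).subtype_injective
    rw [Subgroup.map_subtype_commutator, ← MonoidHom.range_eq_map, Subgroup.range_subtype,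
      ← Subgroup.map_commutator, hL]
  have hne' : L.map φ ≠ ⊥ := by
    intro h0
    rw [Subgroup.map_eq_bot_iff_of_injective _ hinj] at h0
    exact hne h0
  obtain ⟨f⟩ := Cfsg.Agent.S0690.result (L.map φ) (by
    rintro _ ⟨x, hx, rfl⟩ hne1 k hk
    exact hφ x (by rintro rfl; exact hne1 (map_one _)) k hk) hperf hne'
  exact ⟨e.trans f⟩

/-- A finite non-solvable group has a nontrivial perfect normal subgroup with solvable quotient:
the last term of the derived series. -/
theorem exists_perfect {G : Type*} [Group G] [Finite G] (hns : ¬ Group.IsSolvable G) :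
    ∃ L : Subgroup G, L.Characteristic ∧ L ≠ ⊥ ∧ ⁅L, L⁆ = L := by
  obtain ⟨n, hn⟩ := WellFoundedLT.antitone_chain_condition (derivedSeries_antitone G)
  refine ⟨derivedSeries G n, inferInstance, ?_, ?_⟩
  · intro h0
    exact hns ⟨⟨n, h0⟩⟩
  · have := hn (n + 1) (Nat.le_succ n)
    have h2 : derivedSeries G n = derivedSeries G (n + 1) := this
    rw [← derivedSeries_succ]
    exact h2.symm

/-- The conjugation action on a normal subgroup has the centralizer as kernel. -/
theorem ker_conjNormal {G : Type*} [Group G] (L : Subgroup G) [L.Normal] :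
    (MulAut.conjNormal : G →* MulAut L).ker = Subgroup.centralizer (L : Set G) := by
  ext g
  rw [MonoidHom.mem_ker, Subgroup.mem_centralizer_iff]
  constructor
  · intro h x hx
    have h1 := congrArg (fun y : L => (y : G)) (DFunLike.congr_fun h (⟨x, hx⟩ : L))
    simp only [MulAut.conjNormal_apply, MulAut.one_apply] at h1
    rw [mul_inv_eq_iff_eq_mul] at h1
    exact h1.symm
  · intro h
    ext ⟨x, hx⟩
    simp only [MulAut.conjNormal_apply, MulAut.one_apply]
    rw [mul_inv_eq_iff_eq_mul]
    exact (h x hx).symm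

/-- Structure of nonsolvable fixed-point-free groups. -/
theorem HasFPF.nonsolvable {G : Type*} [Group G] [Finite G] (h : HasFPF G)
    (hns : ¬ Group.IsSolvable G) :
    ∃ S M : Subgroup G, S.Characteristic ∧ M.Normal ∧ S ⊓ M = ⊥ ∧
      S ⊔ M = S ⊔ Subgroup.centralizer (S : Set G) ∧
      ((S ⊔ M).index = 1 ∨ (S ⊔ M).index = 2) ∧ (∀ s ∈ S, ∀ x ∈ M, s * x = x * s) ∧
      Nonempty (S ≃* SL25) ∧ (∀ (p : ℕ) [Fact p.Prime] (P : Sylow p M), IsCyclic P) ∧
      (Nat.card M).Coprime 30 := by
  obtain ⟨L, hLc, hLne, hLL⟩ := exists_perfect hns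
  haveI := hLc
  haveI hLn : L.Normal := inferInstance
  obtain ⟨e⟩ := h.perfect L hLL hLne
  set C := Subgroup.centralizer (L : Set G) with hC
  haveI hCn : C.Normal := inferInstance
  have hLcard : Nat.card L = 120 := by rw [Nat.card_congr e.toEquiv, natCard]
  -- `C ⊓ L` has order two
  have hCL : Nat.card (C ⊓ L : Subgroup G) = 2 := by
    have h1 : (C ⊓ L : Subgroup G) = (Subgroup.center L).map L.subtype := by
      ext x
      rw [Subgroup.mem_inf, hC, Subgroup.mem_centralizer_iff]
      constructor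
      · rintro ⟨h1, h2⟩
        refine ⟨⟨x, h2⟩, ?_, rfl⟩
        rw [SetLike.mem_coe, Subgroup.mem_center_iff]
        rintro ⟨y, hy⟩
        exact Subtype.ext (h1 y hy)
      · rintro ⟨⟨y, hy⟩, hz, rfl⟩
        rw [SetLike.mem_coe, Subgroup.mem_center_iff] at hz
        exact ⟨fun w hw => congrArg Subtype.val (hz ⟨w, hw⟩), hy⟩
    rw [h1, Subgroup.card_map_of_injective L.subtype_injective]
    rw [← card_center]
    exact Nat.card_congr (Subgroup.centerCongr e).toEquiv
  have hindex : (L ⊔ C).index * 60 = C.index := by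
    have h1 := Subgroup.relIndex_mul_index (H := C) (K := L ⊔ C) le_sup_right
    have h2 : C.relIndex (L ⊔ C) = 60 := by
      rw [Subgroup.relIndex_sup_right]
      have h3 := Subgroup.relIndex_mul_relIndex (⊥ : Subgroup G) (C ⊓ L) L bot_le inf_le_right
      rw [Subgroup.relIndex_bot_left, Subgroup.relIndex_bot_left, hCL, hLcard,
        Subgroup.inf_relIndex_right] at h3
      omega
    rw [← h1, h2, mul_comm]
  have hindex2 : (L ⊔ C).index = 1 ∨ (L ⊔ C).index = 2 := by
    have h1 : C.index ≤ 120 := by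
      have h2 := Subgroup.index_ker (MulAut.conjNormal : G →* MulAut L)
      rw [ker_conjNormal L, ← hC] at h2
      rw [h2]
      haveI : Finite (MulAut L) := inferInstance
      refine (Nat.card_le_card_of_injective _
        (Subgroup.subtype_injective (MulAut.conjNormal : G →* MulAut L).range)).trans ?_
      have h3 : Nat.card (MulAut L) = Nat.card (MulAut SL25) :=
        Nat.card_congr (MulAut.congr e).toEquiv
      rw [h3]
      exact card_mulAut_le
    have h2 : (L ⊔ C).index ≠ 0 := Subgroup.index_ne_zero_of_finite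
    omega
  -- the central involution
  obtain ⟨z, hz⟩ : ∃ z : G, z = ((e.symm (-1 : SL25) : L) : G) := ⟨_, rfl⟩
  have hzL : z ∈ L := by rw [hz]; exact (e.symm (-1 : SL25)).2
  have hzz : z * z = 1 := by
    rw [hz, ← Subgroup.coe_mul, ← map_mul]
    have : (-1 : SL25) * (-1 : SL25) = 1 := by decide +kernel
    rw [this, map_one]; rfl
  have hz1 : z ≠ 1 := by
    intro h1
    rw [hz] at h1
    have h2 : e.symm (-1 : SL25) = 1 := Subtype.ext h1
    rw [map_eq_one_iff _ e.symm.injective] at h2
    exact neg_one_ne h2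
  have hzc : z ∈ Subgroup.center G := h.mem_center hzz hz1
  have hzC : z ∈ C := by
    rw [hC, Subgroup.mem_centralizer_iff]
    intro x _
    exact Subgroup.mem_center_iff.1 hzc x
  -- elements of prime power order `3`, `4`, `5` in `L`
  have hexists : ∀ n : ℕ, (n = 3 ∨ n = 4 ∨ n = 5) → ∃ x ∈ L, orderOf x = n := by
    have key : ∀ n : ℕ, (∃ g : SL25, orderOf g = n) → ∃ x ∈ L, orderOf x = n := by
      rintro n ⟨g, hg⟩
      refine ⟨(e.symm g : L), (e.symm g).2, ?_⟩
      rw [Subgroup.orderOf_coe, MulEquiv.orderOf_eq, hg]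
    rintro n (rfl | rfl | rfl)
    · apply key
      refine ⟨S * T * (S * T), ?_⟩
      exact orderOf_eq_prime (by decide +kernel) (by decide +kernel)
    · apply key
      refine ⟨S, ?_⟩
      exact orderOf_eq_prime_pow (p := 2) (n := 1) (by decide +kernel) (by decide +kernel)
    · apply key
      haveI : Fact (Nat.Prime 5) := ⟨by norm_num⟩
      refine ⟨T, ?_⟩
      exact orderOf_eq_prime (by decide +kernel) (by decide +kernel)
  -- no element of `C` has order `3`, `4`, `5`
  have hno : ∀ n : ℕ, (n = 3 ∨ n = 4 ∨ n = 5) → ∀ t ∈ C, orderOf t ≠ n := by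
    intro n hn t ht hto
    obtain ⟨x, hx, hxo⟩ := hexists n hn
    have hxt : x * t = t * x := (Subgroup.mem_centralizer_iff.1 ht) x hx
    have h1 := h.zpowers_eq hxt (hxo.trans hto.symm)
    have h2 : t ∈ L := by
      have h3 : t ∈ Subgroup.zpowers x := by rw [h1]; exact Subgroup.mem_zpowers t
      exact (Subgroup.zpowers_le.2 hx) h3
    have h4 : orderOf (⟨t, Subgroup.mem_inf.2 ⟨ht, h2⟩⟩ : (C ⊓ L : Subgroup G)) ∣ 2 := by
      rw [← hCL]; exact orderOf_dvd_natCard _
    rw [Subgroup.orderOf_mk, hto] at h4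
    rcases hn with rfl | rfl | rfl <;> omega
  have hno4 : ¬ 4 ∣ Nat.card C := by
    intro h4
    haveI : Fact (Nat.Prime 2) := ⟨Nat.prime_two⟩
    obtain ⟨K, hK⟩ := Sylow.exists_subgroup_card_pow_prime (G := C) 2 (n := 2) h4
    have hcyc : IsCyclic K := ((h.subgroup C).subgroup K).isCyclic_of_card Nat.prime_two
      Nat.prime_two hK
    obtain ⟨g, hg⟩ := hcyc.exists_generator
    have h5 : orderOf g = 4 := by
      rw [orderOf_eq_card_of_forall_mem_zpowers hg, hK]; norm_num
    refine hno 4 (by simp) ((g : C) : G) (g : C).2 ?_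
    rw [Subgroup.orderOf_coe, Subgroup.orderOf_coe, h5]
  -- the complement
  set Z := Subgroup.zpowers z with hZ
  have hZC : Z ≤ C := by rw [hZ, Subgroup.zpowers_le]; exact hzC
  have hzo : orderOf z = 2 := orderOf_eq_prime (by rw [sq, hzz]) hz1
  have hZcard : Nat.card Z = 2 := by rw [hZ, Nat.card_zpowers, hzo]
  haveI hZn : Z.Normal := by
    constructor
    intro x hx g
    have hxc : x ∈ Subgroup.center G := (Subgroup.zpowers_le.2 hzc) hx
    rw [Subgroup.mem_center_iff.1 hxc g, mul_inv_cancel_right]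
    exact hx
  have hcardN : Nat.card (Z.subgroupOf C) = 2 := by
    rw [← hZcard]
    exact Nat.card_congr (Subgroup.subgroupOfEquivOfLe hZC).toEquiv
  have hcop : Nat.Coprime (Nat.card (Z.subgroupOf C)) (Z.subgroupOf C).index := by
    rw [hcardN, Nat.prime_two.coprime_iff_not_dvd]
    intro h2
    apply hno4
    have h3 := (Z.subgroupOf C).card_mul_index
    rw [← h3, hcardN]
    obtain ⟨k, hk⟩ := h2
    rw [hk]
    exact ⟨k, by ring⟩
  obtain ⟨M', hM'⟩ := Subgroup.exists_right_complement'_of_coprime hcop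
  set M := M'.map C.subtype with hM
  have hMC : M ≤ C := by rw [hM]; exact Subgroup.map_subtype_le _
  have hcardM : Nat.card M = Nat.card M' := Subgroup.card_map_of_injective C.subtype_injective
  have hprod : Nat.card (Z.subgroupOf C) * Nat.card M' = Nat.card C := hM'.card_mul_card
  have hMcard : 2 * Nat.card M = Nat.card C := by rw [hcardM, ← hcardN]; exact hprod
  have hodd : ¬ 2 ∣ Nat.card M := by
    intro h2
    apply hno4
    obtain ⟨k, hk⟩ := h2
    rw [← hMcard, hk]
    exact ⟨k, by ring⟩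
  have hZM : Z ⊔ M = C := by
    have h1 := hM'.sup_eq_top
    have h2 := congrArg (Subgroup.map C.subtype) h1
    rw [Subgroup.map_sup, ← hM, Subgroup.map_subgroupOf_eq_of_le hZC] at h2
    rw [h2, ← MonoidHom.range_eq_map, Subgroup.range_subtype]
  have hMn : M.Normal := by
    constructor
    intro x hx g
    have hxC : g * x * g⁻¹ ∈ C := hCn.conj_mem x (hMC hx) g
    rw [← hZM] at hxC
    obtain ⟨a, ha, b, hb, hab⟩ := (Subgroup.mem_sup_of_normal_left (s := Z) (t := M)).1 hxC
    have hac : a ∈ Subgroup.center G := (Subgroup.zpowers_le.2 hzc) ha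
    have hcomm : Commute a b := (Subgroup.mem_center_iff.1 hac b).symm
    have hpow : ∀ y ∈ M, y ^ Nat.card M = 1 := by
      intro y hy
      have := pow_card_eq_one' (x := (⟨y, hy⟩ : M))
      exact congrArg Subtype.val this
    have h1 : (g * x * g⁻¹) ^ Nat.card M = 1 := by
      rw [conj_pow, hpow x hx, mul_one, mul_inv_cancel]
    rw [← hab, hcomm.mul_pow, hpow b hb, mul_one] at h1
    have h2 : orderOf a ∣ Nat.card M := orderOf_dvd_of_pow_eq_one h1
    have h3 : orderOf a ∣ 2 := by
      have h4 : orderOf (⟨a, ha⟩ : Z) ∣ Nat.card Z := orderOf_dvd_natCard _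
      rwa [Subgroup.orderOf_mk, hZcard] at h4
    have h4 : orderOf a = 1 := by
      rcases (Nat.dvd_prime Nat.prime_two).1 h3 with h5 | h5
      · exact h5
      · exact absurd (h5 ▸ h2) hodd
    rw [orderOf_eq_one_iff] at h4
    rw [← hab, h4, one_mul]
    exact hb
  have hLM : L ⊔ M = L ⊔ C := by
    apply le_antisymm (sup_le_sup_left hMC _)
    rw [← hZM]
    refine sup_le le_sup_left (sup_le ?_ le_sup_right)
    rw [hZ, Subgroup.zpowers_le]
    exact Subgroup.mem_sup_left hzL
  refine ⟨L, M, hLc, hMn, ?_, hLM, ?_, ?_, ⟨e⟩, ?_, ?_⟩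
  · rw [eq_bot_iff]
    intro x hx
    obtain ⟨hxL, hxM⟩ := Subgroup.mem_inf.1 hx
    have h1 : orderOf (⟨x, Subgroup.mem_inf.2 ⟨hMC hxM, hxL⟩⟩ : (C ⊓ L : Subgroup G)) ∣ 2 := by
      rw [← hCL]; exact orderOf_dvd_natCard _
    have h2 : orderOf (⟨x, hxM⟩ : M) ∣ Nat.card M := orderOf_dvd_natCard _
    rw [Subgroup.orderOf_mk] at h1 h2
    rcases (Nat.dvd_prime Nat.prime_two).1 h1 with h3 | h3
    · rw [Subgroup.mem_bot]
      exact orderOf_eq_one_iff.1 h3
    · exact absurd (h3 ▸ h2) hodd
  · rw [hLM]; exact hindex2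
  · intro s hs x hx
    exact (Subgroup.mem_centralizer_iff.1 (hMC hx)) s hs
  · intro p hp P
    by_cases hp2 : p = 2
    · subst hp2
      have h1 : ¬ 2 ∣ Nat.card P := fun h2 => hodd (h2.trans (Subgroup.card_subgroup_dvd_card _))
      have h2 : Nat.card P = 1 := by
        obtain ⟨k, hk⟩ := IsPGroup.iff_card.1 P.2
        rw [hk] at h1 ⊢
        rcases Nat.eq_zero_or_pos k with h3 | h3
        · rw [h3, pow_zero]
        · exact absurd (dvd_pow_self 2 h3.ne') h1
      haveI : Subsingleton P := (Nat.card_eq_one_iff_unique.1 h2).1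
      exact isCyclic_of_subsingleton
    · exact (h.subgroup M).isCyclic_sylow hp2 P
  · have h3 : ∀ q : ℕ, (q = 3 ∨ q = 5) → ¬ q ∣ Nat.card M := by
      intro q hq hd
      haveI : Fact q.Prime := ⟨by rcases hq with rfl | rfl <;> norm_num⟩
      obtain ⟨x, hx⟩ := exists_prime_orderOf_dvd_card' q hd
      refine hno q (by tauto) (x : G) (hMC x.2) ?_
      rw [Subgroup.orderOf_coe, hx]
    have h30 : (30 : ℕ) = 2 * 3 * 5 := by norm_num
    rw [h30]
    refine Nat.Coprime.mul_right (Nat.Coprime.mul_right ?_ ?_) ?_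
    · exact ((Nat.Prime.coprime_iff_not_dvd Nat.prime_two).2 hodd).symm
    · exact ((Nat.Prime.coprime_iff_not_dvd Nat.prime_three).2 (h3 3 (by simp))).symm
    · exact ((Nat.Prime.coprime_iff_not_dvd Nat.prime_five).2 (h3 5 (by simp))).symm

end Cfsg.Agent.H348
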