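import Cfsg.Agent.PermutationGroups.AutQuaternion
import Mathlib

/-!
The automorphism group of the quaternion group of order eight embeds in the symmetric group of degree four.
-/

set_option autoImplicit false

namespace Cfsg.Agent.H348.AutQEight

open QuaternionGroup Cfsg.Agent.PermutationGroups.AutQuaternion

/-- four of the eight triples `{± i, ± j, ± k}` -/
def tri : Fin 4 → Finset (QuaternionGroup 2) :=
  ![{a 1, xa 0, xa 3}, {a 1, xa 0, xa 1}, {a 1, xa 2, xa 3}, {a 1, xa 2, xa 1}]

/-- `f` maps the triple `i` to the triple `j` up to sign -/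
def Rel (f : QuaternionGroup 2 → QuaternionGroup 2) (i j : Fin 4) : Prop :=
  (tri i).image f = tri j ∨ (tri i).image f = (tri j).image (fun w => a 2 * w)

instance (f : QuaternionGroup 2 → QuaternionGroup 2) (i j : Fin 4) : Decidable (Rel f i j) := by
  unfold Rel; infer_instance

theorem exists_rel : ∀ x y : QuaternionGroup 2, good x y = true → ∀ i, ∃ j, Rel (cand x y) i j := by
  decide +kernel

theorem unique_rel : ∀ x y : QuaternionGroup 2, good x y = true → ∀ i j k,
    Rel (cand x y) i j → Rel (cand x y) i k → j = k := by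
  decide +kernel

theorem eq_of_rel : ∀ x y : QuaternionGroup 2, good x y = true → (∀ i, Rel (cand x y) i i) →
    x = a 1 ∧ y = xa 0 := by
  decide +kernel

theorem coe_eq_cand (φ : MulAut (QuaternionGroup 2)) :
    (φ : QuaternionGroup 2 → QuaternionGroup 2) = cand (φ (a 1)) (φ (xa 0)) :=
  funext (eq_cand φ)

theorem exists_rel' (φ : MulAut (QuaternionGroup 2)) (i : Fin 4) : ∃ j, Rel φ i j := by
  rw [coe_eq_cand]; exact exists_rel _ _ (good_map φ) i

theorem unique_rel' (φ : MulAut (QuaternionGroup 2)) {i j k : Fin 4} (h : Rel φ i j) (h' : Rel φ i k) :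
    j = k := by
  rw [coe_eq_cand] at h h'
  exact unique_rel _ _ (good_map φ) i j k h h'

theorem rel_comp (φ ψ : MulAut (QuaternionGroup 2)) {i j k : Fin 4} (h : Rel ψ i j) (h' : Rel φ j k) :
    Rel (φ * ψ : MulAut (QuaternionGroup 2)) i k := by
  have hcomp : ((φ * ψ : MulAut (QuaternionGroup 2)) : QuaternionGroup 2 → QuaternionGroup 2) = φ ∘ ψ := rfl
  unfold Rel at *
  rw [hcomp, ← Finset.image_image]
  have h2 : ∀ T : Finset (QuaternionGroup 2), (T.image (fun w => a 2 * w)).image φ =
      (T.image φ).image (fun w => a 2 * w) := by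
    intro T
    rw [Finset.image_image, Finset.image_image]
    congr 1
    funext w
    simp [map_mul, map_a_two]
  have h3 : ∀ T : Finset (QuaternionGroup 2), (T.image (fun w => a 2 * w)).image (fun w => a 2 * w) = T := by
    intro T
    rw [Finset.image_image]
    have : ((fun w : QuaternionGroup 2 => a 2 * w) ∘ fun w => a 2 * w) = id := by
      funext w
      change a 2 * (a 2 * w) = w
      rw [← mul_assoc]
      have h4 : (a 2 : QuaternionGroup 2) * a 2 = 1 := by decide
      rw [h4, one_mul]
    rw [this, Finset.image_id]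
  rcases h with h | h <;> rcases h' with h' | h'
  · left; rw [h, h']
  · right; rw [h, h']
  · right; rw [h, h2, h']
  · left; rw [h, h2, h', h3]

theorem rel_one (i : Fin 4) : Rel (1 : MulAut (QuaternionGroup 2)) i i := by
  left
  exact Finset.image_id

/-- the action on the four pairs of triples -/
noncomputable def act : MulAut (QuaternionGroup 2) →* Function.End (Fin 4) where
  toFun φ := fun i => (exists_rel' φ i).choose
  map_one' := by
    funext i
    exact unique_rel' 1 (exists_rel' 1 i).choose_spec (rel_one i)
  map_mul' φ ψ := by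
    funext i
    exact unique_rel' (φ * ψ) (exists_rel' (φ * ψ) i).choose_spec
      (rel_comp φ ψ (exists_rel' ψ i).choose_spec (exists_rel' φ _).choose_spec)

theorem act_spec (φ : MulAut (QuaternionGroup 2)) (i : Fin 4) : Rel φ i (act φ i) :=
  (exists_rel' φ i).choose_spec

/-- the embedding of `Aut Q₈` in the symmetric group of degree four -/
noncomputable def toPerm : MulAut (QuaternionGroup 2) →* Equiv.Perm (Fin 4) := act.toHomPerm

theorem toPerm_apply (φ : MulAut (QuaternionGroup 2)) (i : Fin 4) : toPerm φ i = act φ i := rfl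

theorem toPerm_injective : Function.Injective toPerm := by
  rw [injective_iff_map_eq_one]
  intro φ h
  have h1 : ∀ i, Rel φ i i := by
    intro i
    have h2 := act_spec φ i
    have h3 : act φ i = i := by rw [← toPerm_apply, h]; rfl
    rwa [h3] at h2
  rw [coe_eq_cand] at h1
  obtain ⟨hx, hy⟩ := eq_of_rel _ _ (good_map φ) h1
  ext g
  rw [eq_cand φ, hx, hy]
  have h4 : ∀ g : QuaternionGroup 2, cand (a 1) (xa 0) g = g := by decide +kernel
  exact h4 g

end Cfsg.Agent.H348.AutQEight
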