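import Cfsg.Prelude.Def_Solvable
import Cfsg.Agent.S0042
import Cfsg.Agent.S0016
import Cfsg.Agent.Solvable.FixedPointFree
import Cfsg.Agent.Solvable.FpfPGroup
import Mathlib

/-!
Frobenius complements as abstract groups: groups with a fixed-point-free action on a nontrivial
finite abelian group.
-/

set_option autoImplicit false
set_option linter.style.haveILetI false

namespace Cfsg.Agent.H348

open Cfsg.Agent.Solvable.FixedPointFree

/-- `G` acts fixed-point-freely on a nontrivial finite abelian group. -/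
def HasFPF (G : Type*) [Group G] : Prop :=
  ∃ (V : Type) (_ : CommGroup V) (_ : Finite V) (_ : Nontrivial V) (φ : G →* MulAut V),
    ∀ a : G, a ≠ 1 → ∀ v : V, φ a v = v → v = 1

/-- A Frobenius complement acts fixed-point-freely on a nontrivial finite abelian group. -/
theorem hasFPF_of_frobeniusComplement {L : Type} [Group L] [Finite L] (H : Subgroup L)
    (hH : Cfsg.IsFrobeniusComplement H) : HasFPF H := by
  obtain ⟨N, hN, hNn, hNil⟩ := Cfsg.Agent.S0042.result H hH
  -- `N` is not trivial
  have hfix : ∀ h : L, h ∈ H → h ≠ 1 → ∀ v : L, v ∈ N → h * v * h⁻¹ = v → v = 1 := by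
    intro h hh hne v hv hc
    by_contra hv1
    have hvN : v ∈ Cfsg.frobeniusKernel H := by rw [← hN]; exact hv
    have hvH : v ∉ H := by
      rcases hvN with h1 | h1
      · exact absurd h1 hv1
      · intro h2
        apply h1 1
        simpa using h2
    have h3 := hH.2.2 v hvH
    apply hne
    rw [← Subgroup.mem_bot, ← h3, Subgroup.mem_inf]
    refine ⟨hh, ?_⟩
    rw [Subgroup.mem_pointwise_smul_iff_inv_smul_mem, ← map_inv, MulAut.smul_def, MulAut.conj_apply]
    have h4 : v⁻¹ * h * v⁻¹⁻¹ = h := by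
      have h5 : h * v = v * h := mul_inv_eq_iff_eq_mul.1 hc
      rw [inv_inv, mul_assoc, h5, inv_mul_cancel_left]
    rw [h4]
    exact hh
  have hNbot : N ≠ ⊥ := by
    intro h0
    obtain ⟨x, hx⟩ : ∃ x : L, x ∉ H := by
      by_contra hcon
      push Not at hcon
      exact hH.2.1 (eq_top_iff.2 fun x _ => hcon x)
    obtain ⟨N', hN', hN'n, hc⟩ := Cfsg.Agent.S0035.result H hH
    have hNN : N' = N := SetLike.coe_injective (hN'.trans hN.symm)
    rw [hNN, h0] at hc
    have := Subgroup.isComplement'_bot_left.1 hc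
    exact hx (this ▸ Subgroup.mem_top x)
  haveI : Nontrivial N := (Subgroup.nontrivial_iff_ne_bot N).2 hNbot
  haveI : Group.IsNilpotent N := hNil
  haveI : Nontrivial (Subgroup.center N) := by
    rw [Subgroup.nontrivial_iff_ne_bot]
    exact Group.IsNilpotent.center_ne_bot _
  haveI := hNn
  haveI hZc : (Subgroup.center N).Characteristic := inferInstance
  haveI hZn : ((Subgroup.center N).map N.subtype).Normal := inferInstance
  obtain ⟨Z, hZ⟩ : ∃ Z : Subgroup L, Z = (Subgroup.center N).map N.subtype := ⟨_, rfl⟩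
  rw [← hZ] at hZn
  have hZN : Z ≤ N := by rw [hZ]; exact Subgroup.map_subtype_le _
  have hZbot : Z ≠ ⊥ := by
    rw [hZ]
    intro h0
    rw [Subgroup.map_eq_bot_iff_of_injective _ N.subtype_injective] at h0
    exact Group.IsNilpotent.center_ne_bot _ h0
  have hcomm : ∀ a b : Z, a * b = b * a := by
    rintro ⟨a, ha⟩ ⟨b, hb⟩
    apply Subtype.ext
    change a * b = b * a
    rw [hZ] at ha hb
    obtain ⟨a, ha, rfl⟩ := ha
    obtain ⟨b, hb, rfl⟩ := hb
    have := Subgroup.mem_center_iff.1 ha b
    exact congrArg Subtype.val this.symm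
  haveI : Nontrivial Z := (Subgroup.nontrivial_iff_ne_bot Z).2 hZbot
  letI : CommGroup Z := { (inferInstance : Group Z) with mul_comm := hcomm }
  have hHZ : H ≤ Subgroup.normalizer (Z : Set L) := by
    rw [Subgroup.normalizer_eq_top]; exact le_top
  refine ⟨Z, inferInstance, inferInstance, inferInstance, conjHom H Z hHZ, ?_⟩
  refine conjHom_fpf H Z hHZ ?_
  intro a ha hne
  rw [eq_bot_iff]
  intro v hv
  rw [Subgroup.mem_bot]
  obtain ⟨hvZ, hvc⟩ := Subgroup.mem_inf.1 hv
  refine hfix a ha hne v (hZN hvZ) ?_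
  rw [Subgroup.mem_centralizer_singleton_iff] at hvc
  rw [mul_inv_eq_iff_eq_mul]
  first | exact hvc | exact hvc.symm

/-- The property passes along injective homomorphisms. -/
theorem HasFPF.of_injective {G H : Type*} [Group G] [Group H] (hG : HasFPF G) (f : H →* G)
    (hf : Function.Injective f) : HasFPF H := by
  obtain ⟨V, _, _, _, φ, hφ⟩ := hG
  refine ⟨V, inferInstance, inferInstance, inferInstance, φ.comp f, fun a ha v hv => ?_⟩
  exact hφ (f a) (fun h => ha (hf (by rw [h, map_one]))) v hv

theorem HasFPF.subgroup {G : Type*} [Group G] (hG : HasFPF G) (H : Subgroup G) : HasFPF H :=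
  hG.of_injective H.subtype H.subtype_injective

theorem hasFPF_of_exists {G : Type*} [Group G]
    (hFC : ∃ (L : Type) (_ : Group L) (_ : Finite L) (H : Subgroup L),
      Cfsg.IsFrobeniusComplement H ∧ Nonempty (G ≃* H)) : HasFPF G := by
  obtain ⟨L, _, _, H, hH, ⟨e⟩⟩ := hFC
  exact (hasFPF_of_frobeniusComplement H hH).of_injective e.toMonoidHom e.injective

/-- Abelian groups with a fixed-point-free action are cyclic. -/
theorem HasFPF.isCyclic {A : Type*} [Group A] [Finite A] (h : HasFPF A)
    (hA : ∀ a b : A, a * b = b * a) : IsCyclic A := by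
  obtain ⟨V, _, _, _, φ, hφ⟩ := h
  exact isCyclic_of_comm' hA φ hφ

/-- Groups of order `p * q` with a fixed-point-free action are cyclic. -/
theorem HasFPF.isCyclic_of_card {A : Type*} [Group A] (h : HasFPF A) {p q : ℕ} (hp : p.Prime)
    (hq : q.Prime) (hA : Nat.card A = p * q) : IsCyclic A := by
  obtain ⟨V, _, _, _, φ, hφ⟩ := h
  exact isCyclic_of_card_mul φ hφ hp hq hA

/-- In a finite cyclic group, subgroups of the same order are equal. -/
theorem eq_of_card_eq_of_isCyclic {A : Type*} [Group A] [Finite A] (hA : IsCyclic A)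
    {H K : Subgroup A} (h : Nat.card H = Nat.card K) : H = K := by
  classical
  haveI := Fintype.ofFinite A
  have key : ∀ L : Subgroup A, ∀ x : A, x ∈ L ↔ x ^ Nat.card L = 1 := by
    intro L x
    have hpos : 0 < Nat.card L := Nat.card_pos
    have h1 : (Finset.univ.filter fun a : A => a ∈ L) ⊆ Finset.univ.filter fun a : A => a ^ Nat.card L = 1 := by
      intro a ha
      rw [Finset.mem_filter] at ha ⊢
      refine ⟨Finset.mem_univ _, ?_⟩
      have := pow_card_eq_one' (x := (⟨a, ha.2⟩ : L))
      exact congrArg Subtype.val this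
    have h2 : (Finset.univ.filter fun a : A => a ∈ L).card = Nat.card L := by
      rw [← Fintype.card_subtype, Nat.card_eq_fintype_card]
    have h3 := Finset.eq_of_subset_of_card_le h1 (by
      rw [h2]
      exact IsCyclic.card_pow_eq_one_le hpos)
    have h4 := Finset.ext_iff.1 h3 x
    simpa using h4
  ext x
  rw [key H, key K, h]

/-- Commuting elements of the same order generate the same cyclic subgroup. -/
theorem HasFPF.zpowers_eq {G : Type*} [Group G] [Finite G] (h : HasFPF G) {x y : G}
    (hxy : x * y = y * x) (ho : orderOf x = orderOf y) : Subgroup.zpowers x = Subgroup.zpowers y := by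
  set A := Subgroup.closure {x, y} with hA
  have hcomm : ∀ a b : A, a * b = b * a := by
    have h1 : IsMulCommutative A := by
      apply Subgroup.isMulCommutative_closure
      rintro a (rfl | rfl) b (rfl | rfl)
      · rfl
      · exact hxy
      · exact hxy.symm
      · rfl
    exact isMulCommutative_iff.1 h1
  have hcyc : IsCyclic A := (h.subgroup A).isCyclic hcomm
  have hx : x ∈ A := Subgroup.subset_closure (by simp)
  have hy : y ∈ A := Subgroup.subset_closure (by simp)
  have h1 : Subgroup.zpowers (⟨x, hx⟩ : A) = Subgroup.zpowers (⟨y, hy⟩ : A) := by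
    have hc : Nat.card (Subgroup.zpowers (⟨x, hx⟩ : A)) = Nat.card (Subgroup.zpowers (⟨y, hy⟩ : A)) := by
      rw [Nat.card_zpowers, Nat.card_zpowers, Subgroup.orderOf_mk, Subgroup.orderOf_mk, ho]
    exact eq_of_card_eq_of_isCyclic hcyc hc
  have h2 := congrArg (Subgroup.map A.subtype) h1
  rw [MonoidHom.map_zpowers, MonoidHom.map_zpowers] at h2
  exact h2

/-- There is at most one involution. -/
theorem HasFPF.eq_of_sq_eq_one {G : Type*} [Group G] (h : HasFPF G) {x y : G}
    (hx : x * x = 1) (hx1 : x ≠ 1) (hy : y * y = 1) (hy1 : y ≠ 1) : x = y := by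
  obtain ⟨V, _, _, _, φ, hφ⟩ := h
  have key : ∀ a : G, a * a = 1 → a ≠ 1 → ∀ v, φ a v = v⁻¹ := by
    intro a ha ha1 v
    have h1 : φ a (v * φ a v) = v * φ a v := by
      rw [map_mul, ← MulAut.mul_apply, ← map_mul, ha, map_one, MulAut.one_apply, mul_comm]
    have h2 := hφ a ha1 _ h1
    exact eq_inv_of_mul_eq_one_right h2
  by_contra hne
  obtain ⟨v, hv⟩ := exists_ne (1 : V)
  have h3 : x⁻¹ * y ≠ 1 := fun h => hne (inv_mul_eq_one.1 h)
  have h4 := hφ _ h3 v
  apply hv
  apply h4
  have hx' : x⁻¹ = x := inv_eq_of_mul_eq_one_left hx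
  rw [hx', map_mul, MulAut.mul_apply, key y hy hy1, map_inv, key x hx hx1, inv_inv]

/-- An involution is central. -/
theorem HasFPF.mem_center {G : Type*} [Group G] (h : HasFPF G) {x : G}
    (hx : x * x = 1) (hx1 : x ≠ 1) : x ∈ Subgroup.center G := by
  rw [Subgroup.mem_center_iff]
  intro g
  have h1 : g * x * g⁻¹ = x := by
    apply h.eq_of_sq_eq_one _ _ hx hx1
    · calc g * x * g⁻¹ * (g * x * g⁻¹) = g * (x * x) * g⁻¹ := by group
        _ = 1 := by rw [hx]; group
    · intro h2
      apply hx1
      rw [mul_inv_eq_one] at h2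
      exact mul_eq_left.1 h2
  exact mul_inv_eq_iff_eq_mul.1 h1

/-- `p`-groups with a fixed-point-free action have at most one subgroup of order `p`. -/
theorem HasFPF.eq_of_card_eq {P : Type*} [Group P] [Finite P] (h : HasFPF P) {p : ℕ} (hp : p.Prime)
    (hP : IsPGroup p P) (H K : Subgroup P) (hH : Nat.card H = p) (hK : Nat.card K = p) : H = K :=
  Cfsg.Agent.Solvable.FpfPGroup.eq_of_card_eq hp hP
    (fun _ _ hxz hx hz => h.zpowers_eq hxz (hx.trans hz.symm)) H K hH hK

/-- `p`-groups with a fixed-point-free action are cyclic or generalized quaternion. -/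
theorem HasFPF.cyclic_or_quaternion {P : Type*} [Group P] [Finite P] (h : HasFPF P) {p : ℕ}
    (hp : p.Prime) (hP : IsPGroup p P) :
    IsCyclic P ∨ (p = 2 ∧ ∃ n : ℕ, Nonempty (P ≃* QuaternionGroup (2 ^ n))) := by
  haveI : Fact p.Prime := ⟨hp⟩
  exact Cfsg.Agent.S0016.result p hP fun H K hH hK => h.eq_of_card_eq hp hP H K hH hK

/-- Sylow subgroups for odd primes are cyclic. -/
theorem HasFPF.isCyclic_sylow {G : Type*} [Group G] [Finite G] (h : HasFPF G) {p : ℕ}
    [hp : Fact p.Prime] (hp2 : p ≠ 2) (P : Sylow p G) : IsCyclic P := by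
  rcases (h.subgroup (P : Subgroup G)).cyclic_or_quaternion hp.out P.2 with h1 | ⟨h1, -⟩
  · exact h1
  · exact absurd h1 hp2

end Cfsg.Agent.H348
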